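import Mathlib
import Groth.Agent.LocCohLib.CMSop
import Groth.Agent.LocCohLib.Vanishing

/-! Depth of height-theoretic complete intersections in Cohen–Macaulay local rings. -/

open RingTheory.Sequence IsLocalRing Pointwise

namespace Groth.Agent.CISatLib

universe u

variable {R : Type u} [CommRing R]

/-- Dimension of a quotient by an ideal of height at least `r`. -/
theorem ringKrullDim_quotient_le [IsNoetherianRing R] {J : Ideal R} {r N : ℕ}
    (hN : ringKrullDim R ≤ N) (hr : ∀ P : Ideal R, P.IsPrime → J ≤ P → (r : ℕ∞) ≤ P.height) :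
    ringKrullDim (R ⧸ J) ≤ ((N - r : ℕ) : ℕ) := by
  rw [ringKrullDim_quotient]
  refine iSup_le fun l => ?_
  have key : ∀ i : Fin (l.length + 1), ((r + (i : ℕ) : ℕ) : ℕ∞) ≤ (l i).1.asIdeal.height := by
    intro i
    induction i using Fin.induction with
    | zero => simpa using hr _ (l 0).1.2 (l 0).2
    | succ i ih =>
      haveI := (l i.castSucc).1.2
      haveI := (l i.succ).1.2
      have hlt : (l i.castSucc).1.asIdeal < (l i.succ).1.asIdeal := l.step i
      refine le_trans ?_ (Ideal.height_add_one_le_of_lt_of_isPrime hlt)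
      rw [Fin.val_succ, ← add_assoc, Nat.cast_add, Nat.cast_one]
      exact add_le_add ih le_rfl
  have h1 := key (Fin.last l.length)
  haveI := (l (Fin.last l.length)).1.2
  have h2 : ((l (Fin.last l.length)).1.asIdeal.height : WithBot ℕ∞) ≤ ((N : ℕ∞) : WithBot ℕ∞) :=
    Ideal.height_le_ringKrullDim_of_isPrime.trans hN
  have h3 : r + l.length ≤ N := by exact_mod_cast h1.trans (WithBot.coe_le_coe.mp h2)
  exact_mod_cast (by omega : l.length ≤ N - r)

/-- If `J` is generated by `r < dim R` elements and has height `r`, the maximal ideal is not associated to `R/J`. -/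
theorem mem_of_maximalIdeal_pow_mul_le [LocCoh.IsCohenMacaulayLocalRing R] {N r : ℕ} (hr : r < N)
    (hdim : ringKrullDim R = N) (F : Fin r → R) (hF : ∀ i, F i ∈ maximalIdeal R)
    (hht : ∀ P : Ideal R, P.IsPrime → Ideal.span (Set.range F) ≤ P → (r : ℕ∞) ≤ P.height)
    {g : R} {M : ℕ} (hg : ∀ a ∈ maximalIdeal R ^ M, a * g ∈ Ideal.span (Set.range F)) :
    g ∈ Ideal.span (Set.range F) := by
  classical
  obtain ⟨e, rfl⟩ : ∃ e, N = r + (e + 1) := ⟨N - r - 1, by omega⟩
  set J := Ideal.span (Set.range F) with hJ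
  have hJm : J ≤ maximalIdeal R := Ideal.span_le.mpr (Set.range_subset_iff.mpr hF)
  have hJne : J ≠ ⊤ := fun h => (maximalIdeal.isMaximal R).ne_top (top_le_iff.mp (h ▸ hJm))
  haveI : Nontrivial (R ⧸ J) := Ideal.Quotient.nontrivial_iff.mpr hJne
  haveI : IsLocalRing (R ⧸ J) := IsLocalRing.of_surjective' (Ideal.Quotient.mk J) Ideal.Quotient.mk_surjective
  have hq : ringKrullDim (R ⧸ J) ≤ ((e + 1 : ℕ) : ℕ) :=
    (ringKrullDim_quotient_le hdim.le hht).trans (by simp)
  obtain ⟨b, hbm, hb⟩ := Groth.Agent.LocCohLib.exists_radical_generators (e + 1) hq (maximalIdeal (R ⧸ J))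
    (maximalIdeal.isMaximal _).ne_top
  choose b' hb' using fun i => Ideal.Quotient.mk_surjective (I := J) (b i)
  have hb'm : ∀ i, b' i ∈ maximalIdeal R := fun i => by
    have h := hbm i
    rw [← hb' i, IsLocalRing.mem_maximalIdeal] at h
    rw [IsLocalRing.mem_maximalIdeal]
    exact fun hu => h (hu.map _)
  let c : Fin (r + (e + 1)) → R := Fin.append F b'
  have hc : (Ideal.span (Set.range c)).radical = maximalIdeal R := by
    have hrange : Set.range c = Set.range F ∪ Set.range b' := by
      ext x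
      constructor
      · rintro ⟨i, rfl⟩
        refine Fin.addCases (fun j => ?_) (fun j => ?_) i
        · exact Or.inl ⟨j, by simp [c]⟩
        · exact Or.inr ⟨j, by simp [c]⟩
      · rintro (⟨j, rfl⟩ | ⟨j, rfl⟩)
        · exact ⟨Fin.castAdd _ j, by simp [c]⟩
        · exact ⟨Fin.natAdd _ j, by simp [c]⟩
    refine le_antisymm ?_ fun x hx => ?_
    · rw [Ideal.IsPrime.radical_le_iff (Ideal.IsMaximal.isPrime inferInstance), hrange, Ideal.span_le]
      rintro x (⟨j, rfl⟩ | ⟨j, rfl⟩)
      · exact hF j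
      · exact hb'm j
    · have hx' : Ideal.Quotient.mk J x ∈ (Ideal.span (Set.range b)).radical := by
        rw [← hb, (maximalIdeal.isMaximal (R ⧸ J)).isPrime.radical, IsLocalRing.mem_maximalIdeal]
        rw [IsLocalRing.mem_maximalIdeal] at hx
        intro hu
        obtain ⟨v, hv⟩ := hu.exists_right_inv
        obtain ⟨v, rfl⟩ := Ideal.Quotient.mk_surjective v
        rw [← map_mul, ← map_one (Ideal.Quotient.mk J), Ideal.Quotient.eq] at hv
        exact hx (isUnit_of_mul_isUnit_left (Ideal.eq_top_iff_one _ |>.not.mp (maximalIdeal.isMaximal R).ne_top |> fun h1 => by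
          by_contra hnu
          exact h1 (by
            have := sub_mem ((IsLocalRing.mem_maximalIdeal _).mpr hnu) (hJm hv)
            rwa [sub_sub_cancel] at this) : IsUnit (x * v)))
      obtain ⟨l, hl⟩ := hx'
      refine ⟨l, ?_⟩
      have hmap : Ideal.span (Set.range b) = (Ideal.span (Set.range b')).map (Ideal.Quotient.mk J) := by
        rw [Ideal.map_span, ← Set.range_comp]
        exact congrArg _ (congrArg Set.range (funext fun i => (hb' i).symm))
      rw [hmap, ← map_pow, ← Ideal.mem_comap, Ideal.comap_map_of_surjective _ Ideal.Quotient.mk_surjective,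
        ← RingHom.ker_eq_comap_bot, Ideal.mk_ker] at hl
      rw [hrange, Ideal.span_union, sup_comm]
      exact hl
  have hw := Groth.Agent.LocCohLib.isWeaklyRegular_of_sop hdim hc
  rw [List.ofFn_fin_append, isWeaklyRegular_append_iff, List.ofFn_succ, isWeaklyRegular_cons_iff] at hw
  have hJlist : Ideal.ofList (List.ofFn F) = J := congrArg Ideal.span (Set.ext fun x => by simp [List.mem_ofFn])
  have hreg : IsSMulRegular (R ⧸ (Ideal.ofList (List.ofFn F) • ⊤ : Submodule R R)) (b' 0 ^ M) :=
    hw.2.1.pow M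
  have h0 : b' 0 ^ M • (Submodule.Quotient.mk g : R ⧸ (Ideal.ofList (List.ofFn F) • ⊤ : Submodule R R)) = b' 0 ^ M • 0 := by
    rw [smul_zero, ← Submodule.Quotient.mk_smul, Submodule.Quotient.mk_eq_zero, smul_eq_mul, Ideal.mul_top, hJlist]
    exact hg _ (Ideal.pow_mem_pow (hb'm 0) M)
  have := (Submodule.Quotient.mk_eq_zero _).mp (hreg h0)
  rwa [smul_eq_mul, Ideal.mul_top, hJlist] at this

end Groth.Agent.CISatLib
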